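import Mathlib
import Cfsg.Prelude.Def_FusionSystem
import Cfsg.Agent.Fus.Grp

set_option autoImplicit false

/-! A criterion for the 2-fusion system of a finite group to be simple. -/

namespace Cfsg.Agent.H14

open Cfsg Cfsg.FusionSystem

theorem groupFusion_autGroup_inner {G : Type*} [Group G] (S : Subgroup G)
    (hN : ∀ g : G, (∀ x ∈ S, g * x * g⁻¹ ∈ S) → g ∈ S) (α : MulAut S)
    (hα : α ∈ (groupFusionSystem S).autGroup S) : ∃ s ∈ S, ∀ x : S, ((α x : S) : G) = s * x * s⁻¹ := by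
  induction hα using Subgroup.closure_induction with
  | mem α h =>
    obtain ⟨-, -, g, hg⟩ := h
    refine ⟨g, hN g ?_, fun x => hg x⟩
    intro x hx
    have := hg ⟨x, hx⟩
    rw [← this]
    exact (α ⟨x, hx⟩).2
  | one => exact ⟨1, one_mem _, fun x => by simp⟩
  | mul α β _ _ ha hb =>
    obtain ⟨s, hs, h1⟩ := ha
    obtain ⟨t, ht, h2⟩ := hb
    refine ⟨s * t, mul_mem hs ht, fun x => ?_⟩
    rw [MulAut.mul_apply, h1, h2]
    group
  | inv α _ ha =>
    obtain ⟨s, hs, h1⟩ := ha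
    refine ⟨s⁻¹, inv_mem hs, fun x => ?_⟩
    have h2 := h1 (α⁻¹ x)
    rw [MulAut.apply_inv_self] at h2
    rw [h2]
    group

theorem groupFusion_isSimple_of {G : Type*} [Group G] [Finite G] (S : Sylow 2 G)
    (hne : (S : Subgroup G) ≠ ⊥)
    (hN : ∀ g : G, (∀ x ∈ (S : Subgroup G), g * x * g⁻¹ ∈ (S : Subgroup G)) → g ∈ (S : Subgroup G))
    (hconj : ∀ t u : G, t ≠ 1 → t ^ 2 = 1 → u ≠ 1 → u ^ 2 = 1 → ∃ g, g * t * g⁻¹ = u)
    (hgen : ∀ T : Subgroup G, T ≤ S → (∀ u ∈ (S : Subgroup G), u ≠ 1 → u ^ 2 = 1 → u ∈ T) → T = S) :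
    (groupFusionSystem (S : Subgroup G)).IsSimple 2 := by
  refine ⟨isSaturated_groupFusionSystem S, hne, ?_⟩
  intro T E hE
  obtain ⟨⟨-, -, hsub, hclosed, -, hfrat⟩, -⟩ := hE
  by_cases hT : T = ⊥
  · left; exact hT
  right
  have hTS : T ≤ S := hclosed.1
  -- an involution in `T`
  have hTp : IsPGroup 2 T := S.isPGroup'.to_le hTS
  obtain ⟨n, hn⟩ := hTp.exists_card_eq
  have hn0 : n ≠ 0 := by
    rintro rfl
    apply hT
    rw [pow_zero] at hn
    exact Subgroup.card_eq_one.mp hn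
  have h2 : 2 ∣ Nat.card T := by rw [hn]; exact dvd_pow_self 2 hn0
  obtain ⟨t', ht'⟩ := exists_prime_orderOf_dvd_card' 2 h2
  have ht1 : (t' : G) ≠ 1 := by
    intro h
    have : t' = 1 := Subtype.ext h
    rw [this, orderOf_one] at ht'
    norm_num at ht'
  have ht2 : (t' : G) ^ 2 = 1 := by
    have := pow_orderOf_eq_one t'
    rw [ht'] at this
    have := congrArg Subtype.val this
    simpa using this
  have hTeq : T = S := by
    apply hgen T hTS
    intro u hu hu1 hu2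
    obtain ⟨g, hg⟩ := hconj t' u ht1 ht2 hu1 hu2
    have hR : Subgroup.zpowers (t' : G) ≤ T := by
      rw [Subgroup.zpowers_le]; exact t'.2
    have hφ : conjHom (Subgroup.zpowers (t' : G)) g ∈
        (groupFusionSystem (S : Subgroup G)).Hom (Subgroup.zpowers (t' : G)) := by
      refine ⟨hR.trans hTS, ?_, g, fun x => rfl⟩
      rintro ⟨x, hx⟩
      obtain ⟨k, rfl⟩ := Subgroup.mem_zpowers_iff.mp hx
      change g * (t' : G) ^ k * g⁻¹ ∈ (S : Subgroup G)
      rw [← conj_zpow, hg]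
      exact zpow_mem hu k
    have := hclosed.2 _ hR _ hφ ⟨t', Subgroup.mem_zpowers _⟩
    rw [← hg]
    exact this
  subst hTeq
  refine ⟨rfl, fun P => ?_⟩
  apply Set.Subset.antisymm (hsub P)
  intro φ hφ
  obtain ⟨α, hα, φ₀, hφ₀, h⟩ := hfrat P hφ.1 φ hφ
  obtain ⟨s, hs, hsα⟩ := groupFusion_autGroup_inner (S : Subgroup G) hN α hα
  have h0 : ∀ x : P, φ₀ x ∈ (S : Subgroup G) := (E.le_of_mem hφ₀).2
  have hcomp := E.comp_mem hφ₀ (E.conj_mem (le_refl (S : Subgroup G)) hs) h0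
  have : φ = (conjHom (S : Subgroup G) s).comp (φ₀.codRestrict (S : Subgroup G) h0) := by
    ext x
    rw [h x (h0 x), hsα]
    rfl
  rw [this]
  exact hcomp

end Cfsg.Agent.H14
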