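import Mathlib
import Cfsg.Agent.H14.Klein6

/-! # compound matrices and unitary matrices -/

set_option autoImplicit false
set_option linter.unusedSimpArgs false
set_option linter.unusedVariables false
set_option linter.unusedSectionVars false

namespace Cfsg.Agent.H14

open Matrix

section alg

variable {K : Type*} [Field K]

/-- the polar matrix of `Q6` -/
def P6 (K : Type*) [Field K] : Matrix (Fin 6) (Fin 6) K :=
  !![0, 0, 0, 1, 0, 0; 0, 0, 0, 0, 1, 0; 0, 0, 0, 0, 0, 1;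
     1, 0, 0, 0, 0, 0; 0, 1, 0, 0, 0, 0; 0, 0, 1, 0, 0, 0]

theorem P6_mul_P6 : P6 K * P6 K = 1 := by
  ext i j
  fin_cases i <;> fin_cases j <;> simp [P6, Matrix.mul_apply, Fin.sum_univ_six, Matrix.one_apply]

set_option maxHeartbeats 1000000 in
theorem C6_polar (g : Matrix (Fin 4) (Fin 4) K) : (C6 g)ᵀ * P6 K * C6 g = g.det • P6 K := by
  rw [det4]
  ext i j
  fin_cases i <;> fin_cases j <;>
    simp [C6, P6, kr, ks, Matrix.mul_apply, Fin.sum_univ_six] <;> ring

theorem C6_transpose (g : Matrix (Fin 4) (Fin 4) K) : C6 gᵀ = (C6 g)ᵀ := by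
  ext i j
  simp [C6]
  ring

theorem C6_map (f : K →+* K) (g : Matrix (Fin 4) (Fin 4) K) : C6 (g.map f) = (C6 g).map f := by
  ext i j
  simp [C6]

theorem C6_unitary (f : K →+* K) (g : Matrix (Fin 4) (Fin 4) K) (hd : g.det = 1)
    (hg : gᵀ * g.map f = 1) : P6 K * (C6 g).map f = C6 g * P6 K := by
  have h1 : (C6 g)ᵀ * (C6 g).map f = 1 := by
    rw [← C6_transpose, ← C6_map, ← C6_mul, hg, C6_one]
  have h2 : (C6 g).map f * (C6 g)ᵀ = 1 := mul_eq_one_comm.mp h1
  have h3 := C6_polar g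
  rw [hd, one_smul] at h3
  have h4 : P6 K * C6 g = (C6 g).map f * P6 K := by
    calc P6 K * C6 g = ((C6 g).map f * (C6 g)ᵀ) * (P6 K * C6 g) := by rw [h2, Matrix.one_mul]
      _ = (C6 g).map f * ((C6 g)ᵀ * P6 K * C6 g) := by simp only [Matrix.mul_assoc]
      _ = _ := by rw [h3]
  calc P6 K * (C6 g).map f = P6 K * ((C6 g).map f * P6 K) * P6 K := by
        rw [Matrix.mul_assoc, Matrix.mul_assoc, P6_mul_P6, Matrix.mul_one]
    _ = P6 K * (P6 K * C6 g) * P6 K := by rw [h4]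
    _ = _ := by rw [← Matrix.mul_assoc, P6_mul_P6, Matrix.one_mul]

end alg

end Cfsg.Agent.H14
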