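import Mathlib
import Cfsg.Agent.H14.PSL2Class

set_option autoImplicit false

/-! The class number of `SL₂(q)`. -/

namespace Cfsg.Agent.H14

open Matrix Finset Cfsg.Agent.CharLib

variable {F : Type*} [Field F] [Fintype F] [DecidableEq F]

local notation "SL2" => Matrix.SpecialLinearGroup (Fin 2) F
local notation "M2" => Matrix (Fin 2) (Fin 2) F
local notation "q" => Fintype.card F

local instance instDecIsScal (A : M2) : Decidable (IsScal A) := by unfold IsScal; infer_instance

theorem sum_centralizer_fiber_regular (t : F) (ht : t ^ 2 ≠ 4) :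
    ∑ g ∈ univ.filter (fun g : SL2 => g.1.trace = t), Nat.card (Subgroup.centralizer ({g} : Set SL2)) =
      Nat.card SL2 := by
  set S := univ.filter (fun g : SL2 => g.1.trace = t) with hS
  have hne : S.Nonempty := ⟨slC t 1, by simp [hS, trace_slC]⟩
  have key : ∀ g ∈ S, S.card * Nat.card (Subgroup.centralizer ({g} : Set SL2)) = Nat.card SL2 := by
    intro g hg
    have hgt : g.1.trace = t := by simpa [hS] using hg
    rw [← card_isConj_mul_card_centralizer g, card_class_of_regular g (hgt ▸ ht), hgt, ← card_trace_eq,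
      Fintype.card_subtype]
  have h1 : S.card * ∑ g ∈ S, Nat.card (Subgroup.centralizer ({g} : Set SL2)) = S.card * Nat.card SL2 := by
    rw [Finset.mul_sum, Finset.sum_congr rfl key, Finset.sum_const, smul_eq_mul]
  exact Nat.eq_of_mul_eq_mul_left (Finset.card_pos.mpr hne) h1

omit [Fintype F] [DecidableEq F] in
theorem eq_two_or_of_sq {t : F} (ht : t ^ 2 = 4) : t = 2 ∨ t = -2 := by
  have : (t - 2) * (t + 2) = 0 := by linear_combination ht
  rcases mul_eq_zero.mp this with h | h
  · left; linear_combination h
  · right; linear_combination h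

theorem nroots_of_sq {t : F} (ht : t ^ 2 = 4) : nroots t = 1 := by
  rw [nroots, Finset.card_eq_one]
  rcases eq_two_or_of_sq ht with rfl | rfl
  · refine ⟨1, ?_⟩
    ext a
    simp only [Finset.mem_filter, Finset.mem_univ, true_and, Finset.mem_singleton]
    constructor
    · intro h
      have : (a - 1) ^ 2 = 0 := by linear_combination h
      linear_combination pow_eq_zero_iff (two_ne_zero) |>.mp this
    · rintro rfl; ring
  · refine ⟨-1, ?_⟩
    ext a
    simp only [Finset.mem_filter, Finset.mem_univ, true_and, Finset.mem_singleton]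
    constructor
    · intro h
      have : (a + 1) ^ 2 = 0 := by linear_combination h
      linear_combination pow_eq_zero_iff (two_ne_zero) |>.mp this
    · rintro rfl; ring

theorem card_fiber_sq {t : F} (ht : t ^ 2 = 4) : (univ.filter (fun g : SL2 => g.1.trace = t)).card = q ^ 2 := by
  rw [← Fintype.card_subtype, card_trace_eq, nroots_of_sq ht]
  have : 1 ≤ q := Fintype.card_pos
  obtain ⟨k, hk⟩ : ∃ k, q = k + 1 := ⟨q - 1, by omega⟩
  rw [hk]; simp only [Nat.add_sub_cancel]; ring

theorem card_scal_fiber {t : F} (ht : t ^ 2 = 4) :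
    (univ.filter (fun g : SL2 => g.1.trace = t ∧ IsScal g.1)).card = 1 := by
  have tr1 : (dg (1 : Fˣ) : SL2).1.trace = 2 := by rw [trace_dg]; simp; norm_num
  have trm : (dg (-1 : Fˣ) : SL2).1.trace = -2 := by rw [trace_dg]; simp; norm_num
  have collapse : (2 : F) = -2 → (-1 : Fˣ) = 1 := by
    intro h
    have h4 : (2 : F) * 2 = 0 := by linear_combination h
    have h2 : (2 : F) = 0 := mul_self_eq_zero.mp h4
    apply Units.ext
    simp only [Units.val_neg, Units.val_one]
    linear_combination -h2
  rw [Finset.card_eq_one]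
  rcases eq_two_or_of_sq ht with rfl | rfl
  · refine ⟨dg 1, ?_⟩
    ext g
    simp only [Finset.mem_filter, Finset.mem_univ, true_and, Finset.mem_singleton]
    constructor
    · rintro ⟨h1, h2⟩
      obtain ⟨u, hu, rfl⟩ := exists_dg_of_isScal h2
      rcases units_sq_eq_one u hu with rfl | rfl
      · rfl
      · rw [collapse (h1.symm.trans trm)]
    · rintro rfl
      exact ⟨tr1, (isScal_dg_iff 1).mpr (by simp)⟩
  · refine ⟨dg (-1), ?_⟩
    ext g
    simp only [Finset.mem_filter, Finset.mem_univ, true_and, Finset.mem_singleton]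
    constructor
    · rintro ⟨h1, h2⟩
      obtain ⟨u, hu, rfl⟩ := exists_dg_of_isScal h2
      rcases units_sq_eq_one u hu with rfl | rfl
      · rw [collapse (tr1.symm.trans h1)]
      · rfl
    · rintro rfl
      exact ⟨trm, (isScal_dg_iff _).mpr (by simp)⟩

theorem sum_centralizer_fiber_sq {t : F} (ht : t ^ 2 = 4) :
    ∑ g ∈ univ.filter (fun g : SL2 => g.1.trace = t), Nat.card (Subgroup.centralizer ({g} : Set SL2)) =
      Nat.card SL2 + (q ^ 2 - 1) * (Nat.card {e : Fˣ // e ^ 2 = 1} * q) := by
  set z := Nat.card {e : Fˣ // e ^ 2 = 1} * q with hz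
  have v : ∀ g ∈ univ.filter (fun g : SL2 => g.1.trace = t), Nat.card (Subgroup.centralizer ({g} : Set SL2)) =
      (if IsScal g.1 then Nat.card SL2 else 0) + (if ¬ IsScal g.1 then z else 0) := by
    intro g hg
    have hgt : g.1.trace = t := by simpa using hg
    by_cases hs : IsScal g.1
    · have : Subgroup.centralizer ({g} : Set SL2) = ⊤ := by
        rw [eq_top_iff]
        intro x _
        rw [Subgroup.mem_centralizer_singleton_iff]
        exact Subgroup.mem_center_iff.mp ((mem_center_iff_isScal g).mpr hs) x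
      rw [this, Subgroup.card_top]; simp [hs]
    · rw [card_centralizer_unip g hs (hgt ▸ ht), if_neg hs, if_pos hs, zero_add]
  rw [Finset.sum_congr rfl v, Finset.sum_add_distrib, ← Finset.sum_filter, ← Finset.sum_filter,
    Finset.filter_filter, Finset.filter_filter, Finset.sum_const, Finset.sum_const, card_scal_fiber ht]
  have h1 := Finset.card_filter_add_card_filter_not (s := univ.filter (fun g : SL2 => g.1.trace = t))
    (fun g : SL2 => IsScal g.1)
  rw [Finset.filter_filter, Finset.filter_filter, card_scal_fiber ht, card_fiber_sq ht] at h1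
  have h2 : (univ.filter (fun g : SL2 => g.1.trace = t ∧ ¬ IsScal g.1)).card = q ^ 2 - 1 := by omega
  rw [h2]; simp

theorem sum_centralizer_eq :
    ∑ g : SL2, Nat.card (Subgroup.centralizer ({g} : Set SL2)) =
      ∑ t : F, ∑ g ∈ univ.filter (fun g : SL2 => g.1.trace = t), Nat.card (Subgroup.centralizer ({g} : Set SL2)) :=
  (Finset.sum_fiberwise univ (fun g : SL2 => g.1.trace) _).symm

theorem card_conjClasses_sl2_odd (h2 : (2 : F) ≠ 0) : Nat.card (ConjClasses SL2) = q + 4 := by
  have hsum := sum_card_centralizer (G := SL2)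
  rw [sum_centralizer_eq] at hsum
  have hG : Nat.card SL2 = q * (q - 1) * (q + 1) := by rw [Nat.card_eq_fintype_card, card_sl2]
  have v : ∀ t : F, ∑ g ∈ univ.filter (fun g : SL2 => g.1.trace = t), Nat.card (Subgroup.centralizer ({g} : Set SL2)) =
      Nat.card SL2 + if t ^ 2 = 4 then (q ^ 2 - 1) * (2 * q) else 0 := by
    intro t
    split_ifs with ht
    · rw [sum_centralizer_fiber_sq ht, card_sq_eq_one_odd h2]
    · rw [sum_centralizer_fiber_regular t ht, add_zero]
  simp only [v] at hsum
  rw [Finset.sum_add_distrib, ← Finset.sum_filter] at hsum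
  have hc : (univ.filter (fun t : F => t ^ 2 = 4)).card = 2 := by
    rw [Finset.card_eq_two]
    refine ⟨2, -2, ?_, ?_⟩
    · intro h
      have h4 : (2 : F) * 2 = 0 := by linear_combination h
      exact h2 (mul_self_eq_zero.mp h4)
    · ext t
      simp only [Finset.mem_filter, Finset.mem_univ, true_and, Finset.mem_insert, Finset.mem_singleton]
      constructor
      · exact eq_two_or_of_sq
      · rintro (rfl | rfl) <;> ring
  simp only [Finset.sum_const, Finset.card_univ, hc, smul_eq_mul, hG] at hsum
  have h1q : 1 < q := Fintype.one_lt_card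
  obtain ⟨k, hk⟩ : ∃ k, q = k + 1 := ⟨q - 1, by omega⟩
  have hpos : 0 < q * (q - 1) * (q + 1) := by
    apply Nat.mul_pos (Nat.mul_pos _ _) <;> omega
  have e : (q * (q - 1) * (q + 1)) * (q + 4) = (q * (q - 1) * (q + 1)) * Nat.card (ConjClasses SL2) := by
    rw [mul_comm _ (Nat.card _), ← hsum, hk]
    have : (k + 1) ^ 2 - 1 = k * (k + 2) := by
      have : (k + 1) ^ 2 = k * (k + 2) + 1 := by ring
      omega
    rw [this]
    simp only [Nat.add_sub_cancel]
    ring
  exact (Nat.eq_of_mul_eq_mul_left hpos e).symm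

theorem card_conjClasses_sl2_even (h2 : (2 : F) = 0) : Nat.card (ConjClasses SL2) = q + 1 := by
  have hsum := sum_card_centralizer (G := SL2)
  rw [sum_centralizer_eq] at hsum
  have hG : Nat.card SL2 = q * (q - 1) * (q + 1) := by rw [Nat.card_eq_fintype_card, card_sl2]
  have v : ∀ t : F, ∑ g ∈ univ.filter (fun g : SL2 => g.1.trace = t), Nat.card (Subgroup.centralizer ({g} : Set SL2)) =
      Nat.card SL2 + if t ^ 2 = 4 then (q ^ 2 - 1) * q else 0 := by
    intro t
    split_ifs with ht
    · rw [sum_centralizer_fiber_sq ht, card_sq_eq_one_even h2, one_mul]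
    · rw [sum_centralizer_fiber_regular t ht, add_zero]
  simp only [v] at hsum
  rw [Finset.sum_add_distrib, ← Finset.sum_filter] at hsum
  have hc : (univ.filter (fun t : F => t ^ 2 = 4)).card = 1 := by
    rw [Finset.card_eq_one]
    refine ⟨0, ?_⟩
    ext t
    simp only [Finset.mem_filter, Finset.mem_univ, true_and, Finset.mem_singleton]
    constructor
    · intro h
      have : t ^ 2 = 0 := by rw [h]; linear_combination 2 * h2
      exact pow_eq_zero_iff (two_ne_zero) |>.mp this
    · rintro rfl
      linear_combination (-2 : F) * h2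
  simp only [Finset.sum_const, Finset.card_univ, hc, smul_eq_mul, hG] at hsum
  have h1q : 1 < q := Fintype.one_lt_card
  obtain ⟨k, hk⟩ : ∃ k, q = k + 1 := ⟨q - 1, by omega⟩
  have hpos : 0 < q * (q - 1) * (q + 1) := by
    apply Nat.mul_pos (Nat.mul_pos _ _) <;> omega
  have e : (q * (q - 1) * (q + 1)) * (q + 1) = (q * (q - 1) * (q + 1)) * Nat.card (ConjClasses SL2) := by
    rw [mul_comm _ (Nat.card _), ← hsum, hk]
    have : (k + 1) ^ 2 - 1 = k * (k + 2) := by
      have : (k + 1) ^ 2 = k * (k + 2) + 1 := by ring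
      omega
    rw [this]
    simp only [Nat.add_sub_cancel]
    ring
  exact (Nat.eq_of_mul_eq_mul_left hpos e).symm

end Cfsg.Agent.H14
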