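import Mathlib
import Cfsg.Agent.H14.SL2ClassNum
import Cfsg.Agent.H14.SL2Twist

set_option autoImplicit false

/-! Multiplicities of the character degrees of `SL₂(q)`. -/

namespace Cfsg.Agent.H14

open Matrix Finset Cfsg Cfsg.Agent.CharLib Cfsg.Agent.CharLib.H2
open scoped ComplexConjugate

section general

variable {G : Type*} [Group G] [Fintype G]

/-- number of irreducible characters of degree `d` -/
noncomputable def Ndeg (G : Type*) [Group G] (d : ℕ) : ℕ :=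
  Nat.card {χ : IrrCharacter G // (χ : G → ℂ) 1 = (d : ℂ)}

theorem sum_by_degree (D : Finset ℕ) (hD : ∀ χ : IrrCharacter G, ∃ d ∈ D, (χ : G → ℂ) 1 = (d : ℂ))
    (g : ℂ → ℂ) :
    ∑ χ : IrrCharacter G, g ((χ : G → ℂ) 1) = ∑ d ∈ D, (Ndeg G d : ℂ) * g d := by
  classical
  have h1 : ∀ χ : IrrCharacter G, g ((χ : G → ℂ) 1) =
      ∑ d ∈ D, if (χ : G → ℂ) 1 = (d : ℂ) then g d else 0 := by
    intro χ
    obtain ⟨d₀, hd₀, he⟩ := hD χ
    rw [Finset.sum_eq_single d₀]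
    · rw [if_pos he, he]
    · intro b _ hb
      rw [if_neg]
      rw [he]
      intro h
      exact hb (Nat.cast_injective h).symm
    · intro h; exact absurd hd₀ h
  simp only [h1]
  rw [Finset.sum_comm]
  refine Finset.sum_congr rfl fun d _ => ?_
  rw [← Finset.sum_filter, Finset.sum_const, nsmul_eq_mul, Ndeg, Nat.card_eq_fintype_card,
    Fintype.card_subtype]

theorem sum_Ndeg (D : Finset ℕ) (hD : ∀ χ : IrrCharacter G, ∃ d ∈ D, (χ : G → ℂ) 1 = (d : ℂ)) :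
    ∑ d ∈ D, Ndeg G d = Nat.card (ConjClasses G) := by
  have h := sum_by_degree D hD (fun _ => 1)
  simp only [mul_one, Finset.sum_const, Finset.card_univ, nsmul_eq_mul] at h
  rw [← card_irrCharacter, Nat.card_eq_fintype_card]
  exact_mod_cast h.symm

theorem sum_Ndeg_sq (D : Finset ℕ) (hD : ∀ χ : IrrCharacter G, ∃ d ∈ D, (χ : G → ℂ) 1 = (d : ℂ)) :
    ∑ d ∈ D, Ndeg G d * d ^ 2 = Nat.card G := by
  have h := sum_by_degree D hD (fun x => x ^ 2)
  rw [sum_irr_sq] at h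
  exact_mod_cast h.symm

omit [Fintype G] in
theorem Ndeg_eq_one {d : ℕ} {χ₀ : G → ℂ} (h0 : IsIrrCharacter G χ₀) (hd : χ₀ 1 = d)
    (hu : ∀ χ, IsIrrCharacter G χ → χ 1 = (d : ℂ) → χ = χ₀) : Ndeg G d = 1 := by
  rw [Ndeg, Nat.card_eq_one_iff_unique]
  refine ⟨⟨?_⟩, ⟨⟨⟨χ₀, h0⟩, hd⟩⟩⟩
  rintro ⟨⟨a, ha⟩, ha'⟩ ⟨⟨b, hb⟩, hb'⟩
  apply Subtype.ext
  apply Subtype.ext
  simp only
  rw [hu a ha ha', hu b hb hb']

omit [Fintype G] in
theorem Ndeg_eq_two {d : ℕ} {χ₁ χ₂ : G → ℂ} (h1 : IsIrrCharacter G χ₁) (h2 : IsIrrCharacter G χ₂)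
    (hne : χ₁ ≠ χ₂) (hd1 : χ₁ 1 = d) (hd2 : χ₂ 1 = d)
    (hu : ∀ χ, IsIrrCharacter G χ → χ 1 = (d : ℂ) → χ = χ₁ ∨ χ = χ₂) : Ndeg G d = 2 := by
  rw [Ndeg, Nat.card_eq_two_iff]
  refine ⟨⟨⟨χ₁, h1⟩, hd1⟩, ⟨⟨χ₂, h2⟩, hd2⟩, ?_, ?_⟩
  · intro h
    exact hne (congrArg (fun x => x.1.1) h)
  · rw [Set.eq_univ_iff_forall]
    rintro ⟨⟨a, ha⟩, ha'⟩
    rcases hu a ha ha' with rfl | rfl
    · left; rfl
    · right; rfl

end general

variable {F : Type*} [Field F] [Fintype F] [DecidableEq F]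

local notation "SL2" => Matrix.SpecialLinearGroup (Fin 2) F
local notation "M2" => Matrix (Fin 2) (Fin 2) F
local notation "q" => Fintype.card F

theorem exists_quad_mulChar (hodd : Odd q) : ∃ α : MulChar F ℂ, α = α⁻¹ ∧ α ≠ 1 := by
  have hF := ringChar_ne_two_of_odd hodd
  refine ⟨(quadraticChar F).ringHomComp (Int.castRingHom ℂ), ?_, ?_⟩
  · rw [eq_inv_iff_mul_eq_one, ← sq]
    exact ((quadraticChar_isQuadratic F).comp _).sq_eq_one
  · rw [MulChar.ringHomComp_ne_one_iff (RingHom.injective_int _)]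
    exact quadraticChar_ne_one hF

omit [DecidableEq F] in
theorem exists_quad_hom {C : Subgroup SL2} (h : NST C) (hodd : Odd q) : ∃ θ : C →* ℂˣ, θ = θ⁻¹ ∧ θ ≠ 1 := by
  obtain ⟨hc, hcard⟩ := h
  letI : CommGroup C := hc.commGroup
  have h1 := CommGroup.card_monoidHom_of_hasEnoughRootsOfUnity C ℂ
  have h2 : 2 ∣ Nat.card (C →* ℂˣ) := by
    rw [h1, hcard]
    obtain ⟨k, hk⟩ := hodd
    exact ⟨k + 1, by omega⟩
  haveI : Finite (C →* ℂˣ) := Nat.finite_of_card_ne_zero (by rw [h1, hcard]; omega)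
  obtain ⟨θ, hθ⟩ := exists_prime_orderOf_dvd_card' 2 h2
  refine ⟨θ, ?_, ?_⟩
  · have := pow_orderOf_eq_one θ
    rw [hθ] at this
    rw [hom_self_inv_iff]
    intro a
    have h3 := DFunLike.congr_fun this a
    simpa using h3
  · rintro rfl
    rw [orderOf_one] at hθ
    omega

theorem deg_cases {χ : SL2 → ℂ} (hχ : IsIrrCharacter SL2 χ) :
    ∃ d : ℕ, χ 1 = d ∧ (2 * d = 2 ∨ 2 * d = 2 * q ∨ 2 * d = 2 * q + 2 ∨ 2 * d = q + 1 ∨ 2 * d = 2 * q - 2 ∨
      2 * d = q - 1) := by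
  obtain ⟨C, hC⟩ := exists_NST (F := F)
  obtain ⟨d, -, hd⟩ := irr_apply_one_nat (⟨χ, hχ⟩ : IrrCharacter SL2)
  simp only at hd
  refine ⟨d, hd, ?_⟩
  have e : 2 * χ 1 = ((2 * d : ℕ) : ℂ) := by rw [hd]; push_cast; ring
  rcases classification_nat hC hχ _ e with ⟨-, h2⟩ | ⟨-, h2⟩ | ⟨-, h2⟩ | ⟨-, h2⟩ | ⟨-, h2⟩ | ⟨-, h2⟩ <;> tauto

theorem Ndeg_one (hq : 4 ≤ q) : Ndeg SL2 1 = 1 := by
  obtain ⟨C, hC⟩ := exists_NST (F := F)
  apply Ndeg_eq_one (isIrrCharacter_one (G := SL2)) (by simp)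
  intro χ hχ hd
  have e : 2 * χ 1 = ((2 : ℕ) : ℂ) := by rw [hd]; push_cast; ring
  rcases classification_nat hC hχ _ e with ⟨h1, h2⟩ | ⟨h1, h2⟩ | ⟨h1, h2⟩ | ⟨h1, h2⟩ | ⟨h1, h2⟩ | ⟨h1, h2⟩ <;>
      try (exfalso; omega)
  exact h1

theorem Ndeg_q : Ndeg SL2 q = 1 := by
  obtain ⟨C, hC⟩ := exists_NST (F := F)
  have h1q : 1 < q := Fintype.one_lt_card
  apply Ndeg_eq_one (isIrr_Stc (F := F)) Stc_apply_one
  intro χ hχ hd
  have e : 2 * χ 1 = ((2 * q : ℕ) : ℂ) := by rw [hd]; push_cast; ring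
  rcases classification_nat hC hχ _ e with ⟨h1, h2⟩ | ⟨h1, h2⟩ | ⟨h1, h2⟩ | ⟨h1, h2⟩ | ⟨h1, h2⟩ | ⟨h1, h2⟩ <;>
      try (exfalso; omega)
  exact h1

theorem Ndeg_half_plus (hodd : Odd q) (hq : 5 ≤ q) : Ndeg SL2 ((q + 1) / 2) = 2 := by
  obtain ⟨C, hC⟩ := exists_NST (F := F)
  obtain ⟨α, h0, hα1⟩ := exists_quad_mulChar (F := F) hodd
  have hR0 : Rch α ≠ 0 := by
    intro h
    have := congrFun h 1
    rw [Rch_apply_one] at this
    exact q_add_one_ne_zero this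
  obtain ⟨χ₁, h1, hin⟩ := exists_constituent (isClassFunction_Rch α) hR0
  have hh1 := halfOf_Rch hC h0 hα1 h1 hin
  obtain ⟨χ₂, h2, hne, hsum⟩ := hh1.1
  have hin2 : classInner (Rch α) χ₂ ≠ 0 := by
    rw [hsum, classInner_add_left, classInner_irr_self h2, classInner_irr_ne h1 h2 hne.symm]; norm_num
  have hh2 := halfOf_Rch hC h0 hα1 h2 hin2
  obtain ⟨k, hk⟩ := hodd
  have hdeg : ∀ χ : SL2 → ℂ, HalfOf C χ (Rch α) → χ 1 = (((q + 1) / 2 : ℕ) : ℂ) := by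
    intro χ hh
    have := hh.apply_one
    rw [Rch_apply_one] at this
    have e : (q + 1) / 2 = k + 1 := by omega
    have hk' : (q : ℂ) = 2 * k + 1 := by exact_mod_cast hk
    rw [e]
    rw [hk'] at this
    push_cast
    linear_combination this / 2
  apply Ndeg_eq_two h1 h2 hne.symm (hdeg _ hh1) (hdeg _ hh2)
  intro χ hχ hd
  have e : 2 * χ 1 = ((2 * ((q + 1) / 2) : ℕ) : ℂ) := by rw [hd]; push_cast; ring
  rcases classification_nat hC hχ _ e with ⟨h1', h2'⟩ | ⟨h1', h2'⟩ | ⟨h1', h2'⟩ | ⟨h1', h2'⟩ | ⟨h1', h2'⟩ | ⟨h1', h2'⟩ <;>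
      try (exfalso; omega)
  obtain ⟨β, hβ, hβ', hh⟩ := h1'
  obtain rfl := quad_mulChar_unique h0 hα1 hβ hβ'
  by_cases hc : χ = χ₁
  · left; exact hc
  · right
    have := HalfOf.add_eq h1 hχ (Ne.symm hc) hh1 hh (norm_Rch_quad h0)
    rw [hsum] at this
    exact (add_left_cancel this).symm

theorem Ndeg_half_minus (hodd : Odd q) (hq : 5 ≤ q) : Ndeg SL2 ((q - 1) / 2) = 2 := by
  classical
  obtain ⟨C, hC⟩ := exists_NST (F := F)
  obtain ⟨θ, h0, hθ1⟩ := exists_quad_hom hC hodd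
  obtain ⟨α, hc⟩ := exists_compat hC θ
  have hR0 : Pch C θ α ≠ 0 := by
    intro h
    have := congrFun h 1
    rw [Pch_apply_one hC hc] at this
    exact q_sub_one_ne_zero this
  obtain ⟨χ₁, h1, hin⟩ := exists_constituent (isClassFunction_Pch C θ α) hR0
  have hh1 := halfOf_Pch hC h1 hc h0 hθ1 hin
  obtain ⟨χ₂, h2, hne, hsum⟩ := hh1.1
  have hin2 : classInner (Pch C θ α) χ₂ ≠ 0 := by
    rw [hsum, classInner_add_left, classInner_irr_self h2, classInner_irr_ne h1 h2 hne.symm]; norm_num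
  have hh2 := halfOf_Pch hC h2 hc h0 hθ1 hin2
  have hodd' := hodd
  obtain ⟨k, hk⟩ := hodd
  have hdeg : ∀ χ : SL2 → ℂ, HalfOf C χ (Pch C θ α) → χ 1 = (((q - 1) / 2 : ℕ) : ℂ) := by
    intro χ hh
    have := hh.apply_one
    rw [Pch_apply_one hC hc] at this
    have e : (q - 1) / 2 = k := by omega
    have hk' : (q : ℂ) = 2 * k + 1 := by exact_mod_cast hk
    rw [e]
    rw [hk'] at this
    linear_combination this / 2
  apply Ndeg_eq_two h1 h2 hne.symm (hdeg _ hh1) (hdeg _ hh2)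
  intro χ hχ hd
  have e : 2 * χ 1 = ((2 * ((q - 1) / 2) : ℕ) : ℂ) := by rw [hd]; push_cast; ring
  rcases classification_nat hC hχ _ e with ⟨h1', h2'⟩ | ⟨h1', h2'⟩ | ⟨h1', h2'⟩ | ⟨h1', h2'⟩ | ⟨h1', h2'⟩ | ⟨h1', h2'⟩ <;>
      try (exfalso; omega)
  obtain ⟨θ', β, hc', hβ, hβ', hh⟩ := h1'
  obtain rfl := quad_hom_unique hC hodd' h0 hθ1 hβ hβ'
  by_cases hcc : χ = χ₁
  · left; exact hcc
  · right
    have := HalfOf.add_eq h1 hχ (Ne.symm hcc) hh1 hh (by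
      rw [inner_Pch_Pch hC hc hc', if_pos rfl, if_pos h0]; norm_num)
    rw [hsum] at this
    exact (add_left_cancel this).symm

theorem Ndeg_odd (hodd : Odd q) (hq : 5 ≤ q) :
    Ndeg SL2 (q + 1) = (q - 3) / 2 ∧ Ndeg SL2 (q - 1) = (q - 1) / 2 := by
  have h2 : (2 : F) ≠ 0 := odd_two_ne_zero (by obtain ⟨k, hk⟩ := hodd; omega)
  have n1 := Ndeg_one (F := F) (by omega)
  have nq := Ndeg_q (F := F)
  have np := Ndeg_half_plus hodd hq
  have nm := Ndeg_half_minus hodd hq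
  obtain ⟨k, hk⟩ := hodd
  have hD : ∀ χ : IrrCharacter SL2, ∃ d ∈ ({1, q, q + 1, q - 1, (q + 1) / 2, (q - 1) / 2} : Finset ℕ),
      (χ : SL2 → ℂ) 1 = (d : ℂ) := by
    intro χ
    obtain ⟨d, hd, hc⟩ := deg_cases χ.2
    refine ⟨d, ?_, hd⟩
    simp only [Finset.mem_insert, Finset.mem_singleton]
    omega
  have s1 := sum_Ndeg _ hD
  have s2 := sum_Ndeg_sq _ hD
  rw [card_conjClasses_sl2_odd h2] at s1
  rw [Nat.card_eq_fintype_card, card_sl2] at s2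
  have e1 : (q + 1) / 2 = k + 1 := by omega
  have e2 : (q - 1) / 2 = k := by omega
  have e3 : (q - 3) / 2 = k - 1 := by omega
  rw [e1] at np s1 s2
  rw [e2] at nm s1 s2
  rw [e2, e3]
  have m1 : (1 : ℕ) ∉ ({q, q + 1, q - 1, k + 1, k} : Finset ℕ) := by
    simp only [Finset.mem_insert, Finset.mem_singleton]; omega
  have m2 : q ∉ ({q + 1, q - 1, k + 1, k} : Finset ℕ) := by
    simp only [Finset.mem_insert, Finset.mem_singleton]; omega
  have m3 : q + 1 ∉ ({q - 1, k + 1, k} : Finset ℕ) := by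
    simp only [Finset.mem_insert, Finset.mem_singleton]; omega
  have m4 : q - 1 ∉ ({k + 1, k} : Finset ℕ) := by
    simp only [Finset.mem_insert, Finset.mem_singleton]; omega
  have m5 : k + 1 ∉ ({k} : Finset ℕ) := by
    simp only [Finset.mem_singleton]; omega
  rw [Finset.sum_insert m1, Finset.sum_insert m2, Finset.sum_insert m3,
    Finset.sum_insert m4, Finset.sum_insert m5, Finset.sum_singleton,
    n1, nq, np, nm] at s1 s2
  set a := Ndeg SL2 (q + 1)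
  set b := Ndeg SL2 (q - 1)
  rw [hk] at s1 s2
  simp only [Nat.add_sub_cancel] at s2
  have hb : b = 2 * k - 1 - a := by omega
  have hab : a + b = 2 * k - 1 := by omega
  obtain ⟨m, rfl⟩ : ∃ m, k = m + 1 := ⟨k - 1, by omega⟩
  have hab' : a + b = 2 * m + 1 := by omega
  have key : a * (8 * (m + 1) + 4) = m * (8 * (m + 1) + 4) := by
    have hb' : b = 2 * m + 1 - a := by omega
    zify at s2 hab' ⊢
    have hbz : (b : ℤ) = 2 * m + 1 - a := by linarith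
    rw [hbz] at s2
    linear_combination s2
  have ha : a = m := Nat.eq_of_mul_eq_mul_right (by omega) key
  constructor
  · omega
  · omega

theorem Ndeg_even (heven : Even q) (hq : 4 ≤ q) :
    Ndeg SL2 (q + 1) = (q - 2) / 2 ∧ Ndeg SL2 (q - 1) = q / 2 := by
  have h2 : (2 : F) = 0 := by
    have hc : ringChar F = 2 := FiniteField.even_card_iff_char_two.mpr (Nat.even_iff.mp heven)
    have := ringChar.Nat.cast_ringChar (R := F)
    rw [hc] at this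
    exact_mod_cast this
  have n1 := Ndeg_one (F := F) hq
  have nq := Ndeg_q (F := F)
  obtain ⟨k, hk⟩ := heven
  have hD : ∀ χ : IrrCharacter SL2, ∃ d ∈ ({1, q, q + 1, q - 1} : Finset ℕ),
      (χ : SL2 → ℂ) 1 = (d : ℂ) := by
    intro χ
    obtain ⟨d, hd, hc⟩ := deg_cases χ.2
    refine ⟨d, ?_, hd⟩
    simp only [Finset.mem_insert, Finset.mem_singleton]
    omega
  have s1 := sum_Ndeg _ hD
  have s2 := sum_Ndeg_sq _ hD
  rw [card_conjClasses_sl2_even h2] at s1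
  rw [Nat.card_eq_fintype_card, card_sl2] at s2
  have m1 : (1 : ℕ) ∉ ({q, q + 1, q - 1} : Finset ℕ) := by
    simp only [Finset.mem_insert, Finset.mem_singleton]; omega
  have m2 : q ∉ ({q + 1, q - 1} : Finset ℕ) := by
    simp only [Finset.mem_insert, Finset.mem_singleton]; omega
  have m3 : q + 1 ∉ ({q - 1} : Finset ℕ) := by
    simp only [Finset.mem_singleton]; omega
  rw [Finset.sum_insert m1, Finset.sum_insert m2, Finset.sum_insert m3, Finset.sum_singleton,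
    n1, nq] at s1 s2
  set a := Ndeg SL2 (q + 1)
  set b := Ndeg SL2 (q - 1)
  obtain ⟨m, rfl⟩ : ∃ m, k = m + 1 := ⟨k - 1, by omega⟩
  have hq' : q = 2 * m + 1 + 1 := by omega
  rw [hq'] at s1 s2 ⊢
  simp only [Nat.add_sub_cancel] at s2
  have hab' : a + b = 2 * m + 1 := by omega
  have key : a * (8 * m + 8) = m * (8 * m + 8) := by
    zify at s2 hab' ⊢
    have hbz : (b : ℤ) = 2 * m + 1 - a := by linarith
    rw [hbz] at s2
    linear_combination s2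
  have ha : a = m := Nat.eq_of_mul_eq_mul_right (by omega) key
  constructor
  · omega
  · omega

end Cfsg.Agent.H14
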