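import Mathlib
import Cfsg.Prelude.Def_DegreeGraph
import Cfsg.Agent.H14.SL2Mult
import Cfsg.Agent.H25.Codeg2

set_option autoImplicit false

/-! Character degrees of `PSL₂(q)` and `SL₂(q)`. -/

namespace Cfsg.Agent.H14

open Matrix Finset Cfsg Cfsg.Agent.CharLib Cfsg.Agent.CharLib.H2 Cfsg.Agent.H25
open scoped ComplexConjugate

theorem charDegrees_subset_of_equiv {A B : Type*} [Group A] [Group B] (e : A ≃* B) :
    charDegrees B ⊆ charDegrees A := by
  intro d hd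
  obtain ⟨χ, rfl⟩ := hd
  refine ⟨⟨fun a => χ.1 (e a), isIrrCharacter_comp_of_surjective χ.2 e.toMonoidHom e.surjective⟩, ?_⟩
  simp [charDegree]

theorem charDegrees_congr {A B : Type*} [Group A] [Group B] (e : A ≃* B) : charDegrees A = charDegrees B :=
  Set.Subset.antisymm (charDegrees_subset_of_equiv e.symm) (charDegrees_subset_of_equiv e)

variable {F : Type*} [Field F] [Fintype F] [DecidableEq F]

local notation "SL2" => Matrix.SpecialLinearGroup (Fin 2) F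
local notation "PSL2" => Matrix.ProjectiveSpecialLinearGroup (Fin 2) F
local notation "M2" => Matrix (Fin 2) (Fin 2) F
local notation "q" => Fintype.card F

/-- inflation from `PSL₂` to `SL₂` -/
theorem isIrr_inflate (χ : IrrCharacter PSL2) :
    IsIrrCharacter SL2 (fun g => (χ : PSL2 → ℂ) (QuotientGroup.mk g)) :=
  isIrrCharacter_comp_of_surjective χ.2 (QuotientGroup.mk' _) (QuotientGroup.mk'_surjective _)

theorem exists_descend {χ : SL2 → ℂ} (hχ : IsIrrCharacter SL2 χ) (hz : χ (dg (-1)) = χ 1) :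
    ∃ χ' : IrrCharacter PSL2, ∀ g : SL2, (χ' : PSL2 → ℂ) (QuotientGroup.mk g) = χ g := by
  apply exists_quotient_irr (⟨χ, hχ⟩ : IrrCharacter SL2) (Subgroup.center SL2)
  intro z hz'
  rw [mem_kerSub]
  rcases (mem_center_iff_eq z).mp hz' with rfl | rfl
  · rfl
  · exact hz

theorem mem_charDegrees_sl2 {d : ℕ} (hd : d ∈ charDegrees SL2) :
    2 * d = 2 ∨ 2 * d = 2 * q ∨ 2 * d = 2 * q + 2 ∨ 2 * d = q + 1 ∨ 2 * d = 2 * q - 2 ∨ 2 * d = q - 1 := by
  obtain ⟨χ, rfl⟩ := hd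
  obtain ⟨d, hd, hc⟩ := deg_cases χ.2
  rw [charDegree_of_apply_one hd]
  exact hc

theorem charDegrees_psl2_subset : charDegrees PSL2 ⊆ charDegrees SL2 := by
  rintro d ⟨χ, rfl⟩
  exact ⟨⟨_, isIrr_inflate χ⟩, rfl⟩

theorem mem_charDegrees_of_descend {χ : SL2 → ℂ} (hχ : IsIrrCharacter SL2 χ) (hz : χ (dg (-1)) = χ 1)
    {d : ℕ} (hd : χ 1 = d) : d ∈ charDegrees PSL2 ∧ d ∈ charDegrees SL2 := by
  obtain ⟨χ', h⟩ := exists_descend hχ hz
  have : d ∈ charDegrees PSL2 := by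
    refine ⟨χ', ?_⟩
    apply charDegree_of_apply_one
    rw [← hd, ← h 1]
    rfl
  exact ⟨this, charDegrees_psl2_subset this⟩

theorem Stc_dg_neg_one : (Stc : SL2 → ℂ) (dg (-1)) = (Stc : SL2 → ℂ) 1 := by
  rw [Stc_apply_one, Stc, Rch_dg_scal 1 (-1) (by simp), MulChar.one_apply_coe]
  ring

theorem exists_regular_mulChar (h4 : 4 ≤ q) (h5 : q ≠ 5) :
    ∃ α : MulChar F ℂ, α ≠ α⁻¹ ∧ α ((-1 : Fˣ) : F) = 1 := by
  have hn : q - 1 ≠ 0 := by omega
  obtain ⟨β, hβ⟩ := MulChar.exists_mulChar_orderOf F (dvd_refl (q - 1)) (Complex.isPrimitiveRoot_exp (q - 1) hn)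
  refine ⟨β ^ 2, ?_, ?_⟩
  · intro h
    have h1 : β ^ 4 = 1 := by
      have : β ^ 4 = β ^ 2 * β ^ 2 := by rw [← pow_add]
      rw [this]
      nth_rewrite 2 [h]
      simp
    have := Nat.le_of_dvd (by norm_num) (orderOf_dvd_of_pow_eq_one h1)
    have h2 := orderOf_dvd_of_pow_eq_one h1
    rw [hβ] at this h2
    have : q - 1 = 3 ∨ q - 1 = 4 := by omega
    rcases this with h3 | h3
    · rw [h3] at h2; norm_num at h2
    · omega
  · rw [MulChar.pow_apply_coe, ← map_pow]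
    simp

theorem exists_regular_hom {C : Subgroup SL2} (h : NST C) (h4 : 4 ≤ q) :
    ∃ θ : C →* ℂˣ, θ ≠ θ⁻¹ ∧ ∀ hm : dg (-1) ∈ C, θ ⟨dg (-1), hm⟩ = 1 := by
  obtain ⟨hc, hcard⟩ := h
  letI : CommGroup C := hc.commGroup
  obtain ⟨e⟩ := CommGroup.monoidHom_mulEquiv_of_hasEnoughRootsOfUnity C ℂ
  obtain ⟨g, hg⟩ := hc.exists_generator
  have ho : orderOf g = q + 1 := by rw [orderOf_eq_card_of_forall_mem_zpowers hg, hcard]
  set η := e.symm g with hη
  have hoη : orderOf η = q + 1 := by rw [hη, e.symm.orderOf_eq, ho]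
  refine ⟨η ^ 2, ?_, ?_⟩
  · intro hs
    have h1 : η ^ 4 = 1 := by
      ext a
      have := (hom_self_inv_iff (η ^ 2)).mp hs a
      simp only [MonoidHom.pow_apply] at this ⊢
      rw [← pow_mul] at this
      simpa using congrArg Units.val this
    have := Nat.le_of_dvd (by norm_num) (orderOf_dvd_of_pow_eq_one h1)
    omega
  · intro hm
    rw [MonoidHom.pow_apply, ← map_pow]
    have : (⟨dg (-1), hm⟩ : C) ^ 2 = 1 := by
      apply Subtype.ext
      simp [dg_pow, dg_one]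
    rw [this, map_one]

theorem q_mem_charDegrees : q ∈ charDegrees PSL2 ∧ q ∈ charDegrees SL2 :=
  mem_charDegrees_of_descend isIrr_Stc Stc_dg_neg_one Stc_apply_one

theorem q_add_one_mem_charDegrees (h4 : 4 ≤ q) (h5 : q ≠ 5) :
    q + 1 ∈ charDegrees PSL2 ∧ q + 1 ∈ charDegrees SL2 := by
  obtain ⟨α, hα, hα1⟩ := exists_regular_mulChar (F := F) h4 h5
  apply mem_charDegrees_of_descend (isIrr_Rch hα)
  · rw [Rch_dg_scal α (-1) (by simp), hα1, Rch_apply_one]; ring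
  · rw [Rch_apply_one]; push_cast; ring

theorem q_sub_one_mem_charDegrees (h4 : 4 ≤ q) :
    q - 1 ∈ charDegrees PSL2 ∧ q - 1 ∈ charDegrees SL2 := by
  obtain ⟨C, hC⟩ := exists_NST (F := F)
  obtain ⟨θ, hθ, hθ1⟩ := exists_regular_hom hC h4
  obtain ⟨α, hc⟩ := exists_compat hC θ
  have hm : dg (-1 : Fˣ) ∈ C := hC.mem_of_isScal ((isScal_dg_iff _).mpr (by simp))
  apply mem_charDegrees_of_descend (isIrr_Pch hC hc hθ)
  · rw [Pch_dg_scal hC hc (-1) (by simp), hc (-1) hm (by simp), hθ1 hm, Pch_apply_one hC hc]; simp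
  · rw [Pch_apply_one hC hc, Nat.cast_sub (by omega)]; simp

/-- the hypotheses on the degree set used for the degree graph -/
def CdLike (S : Type*) [Group S] (Q : ℕ) : Prop :=
  Q ∈ charDegrees S ∧ Q + 1 ∈ charDegrees S ∧ Q - 1 ∈ charDegrees S ∧
    ∀ d ∈ charDegrees S, 2 * d = 2 ∨ 2 * d = 2 * Q ∨ 2 * d = 2 * Q + 2 ∨ 2 * d = Q + 1 ∨ 2 * d = 2 * Q - 2 ∨
      2 * d = Q - 1

theorem cdLike_of_equiv (h4 : 4 ≤ q) (h5 : q ≠ 5) {S : Type*} [Group S]
    (hS : Nonempty (S ≃* PSL2) ∨ Nonempty (S ≃* SL2)) : CdLike S q := by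
  rcases hS with ⟨⟨e⟩⟩ | ⟨⟨e⟩⟩
  · rw [CdLike, charDegrees_congr e]
    exact ⟨q_mem_charDegrees.1, (q_add_one_mem_charDegrees h4 h5).1, (q_sub_one_mem_charDegrees h4).1,
      fun d hd => mem_charDegrees_sl2 (charDegrees_psl2_subset hd)⟩
  · rw [CdLike, charDegrees_congr e]
    exact ⟨q_mem_charDegrees.2, (q_add_one_mem_charDegrees h4 h5).2, (q_sub_one_mem_charDegrees h4).2,
      fun d hd => mem_charDegrees_sl2 hd⟩

omit [Field F] [Fintype F] [DecidableEq F] in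
theorem sq_sub_one_eq (Q : ℕ) (hQ : 1 ≤ Q) : Q ^ 2 - 1 = (Q - 1) * (Q + 1) := by
  obtain ⟨k, rfl⟩ : ∃ k, Q = k + 1 := ⟨Q - 1, by omega⟩
  simp only [Nat.add_sub_cancel]
  have : (k + 1) ^ 2 = k * (k + 1 + 1) + 1 := by ring
  omega

omit [Field F] [Fintype F] [DecidableEq F] in
theorem CdLike.degreePrimes_eq {S : Type*} [Group S] {Q : ℕ} (h : CdLike S Q) (hQ : 2 ≤ Q) :
    degreePrimes S = {r : ℕ | r.Prime ∧ r ∣ Q * (Q ^ 2 - 1)} := by
  obtain ⟨h1, h2, h3, hall⟩ := h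
  rw [sq_sub_one_eq Q (by omega)]
  ext r
  simp only [degreePrimes, Set.mem_ofPred_eq]
  constructor
  · rintro ⟨hr, d, hd, hrd⟩
    refine ⟨hr, hrd.trans ?_⟩
    rcases hall d hd with h | h | h | h | h | h
    · have : d = 1 := by omega
      rw [this]; exact one_dvd _
    · have : d = Q := by omega
      rw [this]; exact Dvd.intro _ rfl
    · have : d = Q + 1 := by omega
      rw [this]; exact Dvd.dvd.mul_left (Dvd.intro_left _ rfl) _
    · exact Dvd.dvd.mul_left (Dvd.dvd.mul_left ⟨2, by omega⟩ _) _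
    · have : d = Q - 1 := by omega
      rw [this]; exact Dvd.dvd.mul_left (Dvd.intro _ rfl) _
    · exact Dvd.dvd.mul_left (Dvd.dvd.mul_right ⟨2, by omega⟩ _) _
  · rintro ⟨hr, hrd⟩
    refine ⟨hr, ?_⟩
    rcases (Nat.Prime.dvd_mul hr).mp hrd with h | h
    · exact ⟨Q, h1, h⟩
    · rcases (Nat.Prime.dvd_mul hr).mp h with h | h
      · exact ⟨Q - 1, h3, h⟩
      · exact ⟨Q + 1, h2, h⟩

omit [Field F] [Fintype F] [DecidableEq F] in
theorem CdLike.adj_iff {S : Type*} [Group S] {Q t n : ℕ} (h : CdLike S Q) (ht : t.Prime) (hQ : Q = t ^ n)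
    (r s : ℕ) :
    (degreeGraph S).Adj r s ↔ (r ≠ s ∧ r.Prime ∧ s.Prime ∧ ((r ∣ Q + 1 ∧ s ∣ Q + 1) ∨ (r ∣ Q - 1 ∧ s ∣ Q - 1))) := by
  obtain ⟨h1, h2, h3, hall⟩ := h
  constructor
  · rintro ⟨hne, hr, hs, d, hd, hrs⟩
    refine ⟨hne, hr, hs, ?_⟩
    have hrd : r ∣ d := (Dvd.intro _ rfl).trans hrs
    have hsd : s ∣ d := (Dvd.intro_left _ rfl).trans hrs
    rcases hall d hd with h | h | h | h | h | h
    · exfalso
      have : d = 1 := by omega
      rw [this] at hrd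
      exact hr.one_lt.ne' (Nat.dvd_one.mp hrd)
    · exfalso
      have : d = t ^ n := by omega
      rw [this] at hrd hsd
      have e1 := (Nat.prime_dvd_prime_iff_eq hr ht).mp (hr.dvd_of_dvd_pow hrd)
      have e2 := (Nat.prime_dvd_prime_iff_eq hs ht).mp (hs.dvd_of_dvd_pow hsd)
      exact hne (e1.trans e2.symm)
    · left
      have : d = Q + 1 := by omega
      rw [this] at hrd hsd
      exact ⟨hrd, hsd⟩
    · left
      have : d ∣ Q + 1 := ⟨2, by omega⟩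
      exact ⟨hrd.trans this, hsd.trans this⟩
    · right
      have : d = Q - 1 := by omega
      rw [this] at hrd hsd
      exact ⟨hrd, hsd⟩
    · right
      have : d ∣ Q - 1 := ⟨2, by omega⟩
      exact ⟨hrd.trans this, hsd.trans this⟩
  · rintro ⟨hne, hr, hs, h⟩
    refine ⟨hne, hr, hs, ?_⟩
    have hcop : Nat.Coprime r s := (Nat.coprime_primes hr hs).mpr hne
    rcases h with ⟨a, b⟩ | ⟨a, b⟩
    · exact ⟨Q + 1, h2, hcop.mul_dvd_of_dvd_of_dvd a b⟩
    · exact ⟨Q - 1, h3, hcop.mul_dvd_of_dvd_of_dvd a b⟩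

end Cfsg.Agent.H14
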