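import Mathlib

set_option autoImplicit false

/-! Redundant Sylow subgroups pass through central quotients. -/

namespace Cfsg.Agent.H14

theorem mem_sylow_of_map_mem {G H : Type*} [Group G] [Group H] {p : ℕ} (f : G →* H)
    (hker : f.ker ≤ Subgroup.center G) (P : Sylow p G) {x : G} (hx : ∃ k : ℕ, orderOf x = p ^ k)
    (hfx : f x ∈ (P : Subgroup G).map f) : x ∈ P := by
  obtain ⟨y, hy, hyx⟩ := hfx
  have hz : y⁻¹ * x ∈ Subgroup.center G := by
    apply hker
    rw [MonoidHom.mem_ker, map_mul, map_inv, hyx, inv_mul_cancel]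
  have hxN : x ∈ Subgroup.normalizer ((P : Subgroup G) : Set G) := by
    have h1 : y⁻¹ * x ∈ Subgroup.normalizer ((P : Subgroup G) : Set G) :=
      Subgroup.center_le_normalizer _ hz
    have h2 : y ∈ Subgroup.normalizer ((P : Subgroup G) : Set G) := Subgroup.le_normalizer hy
    have := mul_mem h2 h1
    rwa [mul_inv_cancel_left] at this
  obtain ⟨k, hk⟩ := hx
  have hp : IsPGroup p (Subgroup.zpowers x) := by
    apply IsPGroup.of_card (n := k)
    rw [Nat.card_zpowers, hk]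
  have hN : Subgroup.zpowers x ≤ Subgroup.normalizer ((P : Subgroup G) : Set G) := by
    rw [Subgroup.zpowers_le]; exact hxN
  have hs : IsPGroup p (Subgroup.zpowers x ⊔ (P : Subgroup G) : Subgroup G) :=
    IsPGroup.to_sup_of_normal_right' hp P.2 hN
  have h1 := P.is_maximal' hs le_sup_right
  have : x ∈ (Subgroup.zpowers x ⊔ (P : Subgroup G) : Subgroup G) :=
    (le_sup_left : Subgroup.zpowers x ≤ _) (Subgroup.mem_zpowers x)
  rw [h1] at this
  exact this

theorem redundant_iff_of_central {G H : Type*} [Group G] [Finite G] [Group H] {p : ℕ} [Fact p.Prime]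
    (f : G →* H) (hf : Function.Surjective f) (hker : f.ker ≤ Subgroup.center G) :
    (∃ Q : Sylow p H, ∀ x : H, (∃ k : ℕ, orderOf x = p ^ k) → ∃ P : Sylow p H, P ≠ Q ∧ x ∈ P) ↔
    (∃ Q : Sylow p G, ∀ x : G, (∃ k : ℕ, orderOf x = p ^ k) → ∃ P : Sylow p G, P ≠ Q ∧ x ∈ P) := by
  have hord : ∀ (R : Sylow p G) (g : G), g ∈ R → ∃ k : ℕ, orderOf g = p ^ k := by
    intro R g hg
    obtain ⟨k, hk⟩ := (R.2.exists_orderOf_eq_pow (⟨g, hg⟩ : (R : Subgroup G)))
    exact ⟨k, by rw [← hk, Subgroup.orderOf_mk]⟩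
  constructor
  · rintro ⟨Q', hQ'⟩
    obtain ⟨Q, rfl⟩ := Sylow.mapSurjective_surjective hf p Q'
    refine ⟨Q, fun x hx => ?_⟩
    obtain ⟨k, hk⟩ := hx
    have hfx : ∃ j : ℕ, orderOf (f x) = p ^ j := by
      have : orderOf (f x) ∣ p ^ k := hk ▸ orderOf_map_dvd f x
      obtain ⟨j, -, hj⟩ := (Nat.dvd_prime_pow Fact.out).mp this
      exact ⟨j, hj⟩
    obtain ⟨P', hP', hxP'⟩ := hQ' (f x) hfx
    obtain ⟨P, rfl⟩ := Sylow.mapSurjective_surjective hf p P'
    refine ⟨P, fun h => hP' (by rw [h]), ?_⟩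
    exact mem_sylow_of_map_mem f hker P ⟨k, hk⟩ hxP'
  · rintro ⟨Q, hQ⟩
    refine ⟨Q.mapSurjective hf, fun x' hx' => ?_⟩
    obtain ⟨k, hk⟩ := hx'
    have hp : IsPGroup p (Subgroup.zpowers x') := by
      apply IsPGroup.of_card (n := k)
      rw [Nat.card_zpowers, hk]
    obtain ⟨P₀', hP₀'⟩ := hp.exists_le_sylow
    obtain ⟨P₀, rfl⟩ := Sylow.mapSurjective_surjective hf p P₀'
    obtain ⟨x, hxP₀, rfl⟩ : x' ∈ (P₀ : Subgroup G).map f := hP₀' (Subgroup.mem_zpowers x')
    obtain ⟨P, hPQ, hxP⟩ := hQ x (hord P₀ x hxP₀)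
    refine ⟨P.mapSurjective hf, ?_, Subgroup.mem_map_of_mem f hxP⟩
    intro h
    apply hPQ
    have hle : (P : Subgroup G) ≤ Q := by
      intro g hg
      apply mem_sylow_of_map_mem f hker Q (hord P g hg)
      have : f g ∈ (P.mapSurjective hf : Subgroup H) := Subgroup.mem_map_of_mem f hg
      rw [h] at this
      exact this
    exact Sylow.ext (P.is_maximal' Q.2 hle).symm

end Cfsg.Agent.H14
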